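import Mathlib.LinearAlgebra.ExteriorPower.Basic
import Mathlib.LinearAlgebra.Alternating.Uncurry.Fin
import Mathlib.LinearAlgebra.ExteriorAlgebra.Grading
import Mathlib.LinearAlgebra.Pi

/-!
The top exterior power of a module with a free direct summand.
-/

set_option autoImplicit false

noncomputable section

universe u

open exteriorPower

namespace Groth.L12.TopExt

variable {R : Type u} [CommRing R] {E : Type u} [AddCommGroup E] [Module R E]

/-- The image of `⋀^k E` in the exterior algebra of `R × E`. -/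
def img (E : Type u) [AddCommGroup E] [Module R E] (k : ℕ) : Submodule R (ExteriorAlgebra R (R × E)) :=
  (⋀[R]^k E).map (ExteriorAlgebra.map (LinearMap.inr R R E)).toLinearMap

/-- The image of `⋀^k E` times the first coordinate vector. -/
def imgMul (E : Type u) [AddCommGroup E] [Module R E] (k : ℕ) : Submodule R (ExteriorAlgebra R (R × E)) :=
  (img (R := R) E k).map (LinearMap.mulLeft R (ExteriorAlgebra.ι R ((1, 0) : R × E)))

theorem ι_mul_map (w : E) (x : ExteriorAlgebra R E) :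
    ExteriorAlgebra.ι R ((0, w) : R × E) * ExteriorAlgebra.map (LinearMap.inr R R E) x =
      ExteriorAlgebra.map (LinearMap.inr R R E) (ExteriorAlgebra.ι R w * x) := by
  rw [map_mul, ExteriorAlgebra.map_apply_ι]
  rfl

theorem ι_mul_mem {k : ℕ} (w : E) {x : ExteriorAlgebra R E} (hx : x ∈ ⋀[R]^k E) :
    ExteriorAlgebra.ι R w * x ∈ ⋀[R]^(k + 1) E := by
  rw [ExteriorAlgebra.exteriorPower, pow_succ']
  exact Submodule.mul_mem_mul (LinearMap.mem_range_self _ w) hx

/-- The products of `n + 1` vectors of `R × E`. -/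
theorem ιMulti_mem (n : ℕ) (v : Fin (n + 1) → R × E) :
    ExteriorAlgebra.ιMulti R (n + 1) v ∈ img E (n + 1) ⊔ imgMul E n := by
  let e : R × E := (1, 0)
  have hv0 : ∀ x : R × E, ExteriorAlgebra.ι R x = x.1 • ExteriorAlgebra.ι R e + ExteriorAlgebra.ι R ((0, x.2) : R × E) :=
    fun x => by rw [← map_smul, ← map_add]; exact congrArg _ (Prod.ext (by simp [e]) (by simp [e]))
  induction n with
  | zero =>
    rw [ExteriorAlgebra.ιMulti_succ_apply, ExteriorAlgebra.ιMulti_zero_apply, mul_one, hv0]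
    refine add_mem (Submodule.mem_sup_right (Submodule.smul_mem _ _ ?_)) (Submodule.mem_sup_left ?_)
    · refine ⟨1, ⟨1, ?_, by simp⟩, mul_one _⟩
      rw [ExteriorAlgebra.exteriorPower, pow_zero]
      exact Submodule.mem_one.2 ⟨1, map_one _⟩
    · exact ⟨ExteriorAlgebra.ι R (v 0).2, by rw [ExteriorAlgebra.exteriorPower, pow_one]; exact LinearMap.mem_range_self _ _,
        by simp⟩
  | succ n ih =>
    rw [ExteriorAlgebra.ιMulti_succ_apply, hv0]
    obtain ⟨a, ⟨x, hx, rfl⟩, b, ⟨b', ⟨y, hy, rfl⟩, rfl⟩, hab⟩ := Submodule.mem_sup.1 (ih (Matrix.vecTail v))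
    rw [← hab]
    simp only [AlgHom.toLinearMap_apply, LinearMap.mulLeft_apply, add_mul, mul_add, smul_mul_assoc]
    refine add_mem (add_mem ?_ ?_) (add_mem ?_ ?_)
    · exact Submodule.mem_sup_right (Submodule.smul_mem _ _ ⟨_, ⟨x, hx, rfl⟩, rfl⟩)
    · rw [ι_mul_map]
      exact Submodule.mem_sup_left ⟨_, ι_mul_mem _ hx, rfl⟩
    · rw [← mul_assoc, ExteriorAlgebra.ι_sq_zero, zero_mul, smul_zero]
      exact zero_mem _
    · rw [← mul_assoc, eq_neg_of_add_eq_zero_left (ExteriorAlgebra.ι_add_mul_swap ((0, (v 0).2) : R × E) e),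
        neg_mul, mul_assoc, ι_mul_map]
      exact Submodule.mem_sup_right (neg_mem ⟨_, ⟨_, ι_mul_mem _ hy, rfl⟩, rfl⟩)

theorem exterior_le (n : ℕ) : ⋀[R]^(n + 1) (R × E) ≤ img E (n + 1) ⊔ imgMul E n := by
  rw [← ExteriorAlgebra.ιMulti_span_fixedDegree, Submodule.span_le]
  rintro _ ⟨v, rfl⟩
  exact ιMulti_mem n v

theorem eq_bot_succ {k : ℕ} (h : ⋀[R]^k E = ⊥) : ⋀[R]^(k + 1) E = ⊥ := by
  rw [ExteriorAlgebra.exteriorPower] at h
  rw [ExteriorAlgebra.exteriorPower, pow_succ', h, Submodule.mul_bot]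

/-- Wedge with the first coordinate vector. -/
theorem top_prod (m : ℕ) (hE : Subsingleton ↥(⋀[R]^(m + 1) E)) :
    Nonempty (↥(⋀[R]^(m + 1) (R × E)) ≃ₗ[R] ↥(⋀[R]^m E)) ∧ Subsingleton ↥(⋀[R]^(m + 2) (R × E)) := by
  have h1 : ⋀[R]^(m + 1) E = ⊥ := Submodule.eq_bot_of_subsingleton
  have hi : ∀ k, ⋀[R]^k E = ⊥ → img (R := R) E k = ⊥ := fun k h => by rw [img, h, Submodule.map_bot]
  constructor
  · let e : R × E := (1, 0)
    let f : ↥(⋀[R]^m E) →ₗ[R] ↥(⋀[R]^(m + 1) (R × E)) :=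
      exteriorPower.alternatingMapLinearEquiv
        (((exteriorPower.ιMulti R (m + 1) (M := R × E)).curryLeft e).compLinearMap (LinearMap.inr R R E))
    let g : ↥(⋀[R]^(m + 1) (R × E)) →ₗ[R] ↥(⋀[R]^m E) :=
      exteriorPower.alternatingMapLinearEquiv (AlternatingMap.alternatizeUncurryFin
        ((LinearMap.fst R R E).smulRight
          ((exteriorPower.ιMulti R m (M := E)).compLinearMap (LinearMap.snd R R E))))
    have hf : ∀ w : Fin m → E, f (exteriorPower.ιMulti R m w) =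
        exteriorPower.ιMulti R (m + 1) (Matrix.vecCons e fun i => ((0, w i) : R × E)) := fun w => by
      rw [exteriorPower.alternatingMapLinearEquiv_apply_ιMulti]
      rfl
    have hgf : g ∘ₗ f = LinearMap.id := by
      refine exteriorPower.linearMap_ext (AlternatingMap.ext fun w => ?_)
      show g (f (exteriorPower.ιMulti R m w)) = exteriorPower.ιMulti R m w
      rw [hf, exteriorPower.alternatingMapLinearEquiv_apply_ιMulti, AlternatingMap.alternatizeUncurryFin_apply,
        Fin.sum_univ_succ, Finset.sum_eq_zero fun i _ => ?_]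
      · simp [e, Fin.removeNth_zero, Fin.tail]
      · simp
    have hcoe : ((⋀[R]^(m + 1) (R × E)).subtype ∘ₗ f) =
        LinearMap.mulLeft R (ExteriorAlgebra.ι R e) ∘ₗ
          (ExteriorAlgebra.map (LinearMap.inr R R E)).toLinearMap ∘ₗ (⋀[R]^m E).subtype := by
      refine exteriorPower.linearMap_ext (AlternatingMap.ext fun w => ?_)
      show ((f (exteriorPower.ιMulti R m w)) : ExteriorAlgebra R (R × E)) =
        ExteriorAlgebra.ι R e * ExteriorAlgebra.map (LinearMap.inr R R E) (exteriorPower.ιMulti R m w).1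
      rw [hf, exteriorPower.ιMulti_apply_coe, exteriorPower.ιMulti_apply_coe,
        ExteriorAlgebra.ιMulti_succ_apply, ExteriorAlgebra.map_apply_ιMulti]
      simp [Function.comp_def, Matrix.vecTail]
    have hsurj : Function.Surjective f := fun z => by
      have hz := exterior_le m z.2
      rw [hi _ h1, bot_sup_eq] at hz
      obtain ⟨_, ⟨y, hy, rfl⟩, hz⟩ := hz
      exact ⟨⟨y, hy⟩, Subtype.ext ((LinearMap.congr_fun hcoe ⟨y, hy⟩).trans hz)⟩
    exact ⟨(LinearEquiv.ofBijective f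
      ⟨fun a b h => by simpa [← LinearMap.comp_apply, hgf] using congrArg g h, hsurj⟩).symm⟩
  · have h2 : ⋀[R]^(m + 2) (R × E) = ⊥ := le_bot_iff.1 <| (exterior_le (m + 1)).trans <| by
      rw [hi _ (eq_bot_succ h1), imgMul, hi _ h1, Submodule.map_bot, bot_sup_eq]
    exact Submodule.subsingleton_iff_eq_bot.2 h2

/-- Transport along a linear equivalence. -/
def congrEquiv (k : ℕ) {E' : Type u} [AddCommGroup E'] [Module R E'] (e : E ≃ₗ[R] E') :
    ↥(⋀[R]^k E) ≃ₗ[R] ↥(⋀[R]^k E') :=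
  LinearEquiv.ofLinearMap (exteriorPower.map k e.toLinearMap) (exteriorPower.map k e.symm.toLinearMap)
    (by rw [← exteriorPower.map_comp, e.comp_symm, exteriorPower.map_id])
    (by rw [← exteriorPower.map_comp, e.symm_comp, exteriorPower.map_id])

/-- `⋀^(p+m)(R^p × E) ≅ ⋀^m E` when `⋀^(m+1) E = 0`. -/
theorem top_pi_prod (m : ℕ) (hE : Subsingleton ↥(⋀[R]^(m + 1) E)) (p : ℕ) :
    Nonempty (↥(⋀[R]^(p + m) ((Fin p → R) × E)) ≃ₗ[R] ↥(⋀[R]^m E)) ∧
      Subsingleton ↥(⋀[R]^(p + m + 1) ((Fin p → R) × E)) := by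
  induction p with
  | zero =>
    let e : ((Fin 0 → R) × E) ≃ₗ[R] E := LinearEquiv.uniqueProd
    rw [Nat.zero_add]
    exact ⟨⟨congrEquiv m e⟩, (congrEquiv (m + 1) e).toEquiv.subsingleton⟩
  | succ p ih =>
    obtain ⟨⟨i⟩, hs⟩ := ih
    obtain ⟨⟨j⟩, hs'⟩ := top_prod (E := (Fin p → R) × E) (p + m) hs
    let e : ((Fin (p + 1) → R) × E) ≃ₗ[R] R × ((Fin p → R) × E) :=
      ((Fin.consLinearEquiv R (fun _ : Fin (p + 1) => R)).symm.prodCongr (LinearEquiv.refl R E)).trans
        (LinearEquiv.prodAssoc R R (Fin p → R) E)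
    rw [show p + 1 + m = p + m + 1 by omega]
    exact ⟨⟨(congrEquiv _ e).trans (j.trans i)⟩, (congrEquiv (p + m + 2) e).toEquiv.subsingleton⟩

end Groth.L12.TopExt
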