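import Mathlib.RingTheory.Smooth.Kaehler
import Mathlib.RingTheory.Smooth.Basic
import Groth.Agent.L07.QuasiRegular

/-!
The split conormal sequence of a smooth quotient by a regular sequence.
-/

set_option autoImplicit false
set_option linter.style.haveILetI false
set_option backward.isDefEq.respectTransparency false
set_option backward.isDefEq.respectTransparency.types false

noncomputable section

universe u

open scoped TensorProduct
open KaehlerDifferential MvPolynomial

namespace Groth.L12.TopExt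

theorem exists_split {k A : Type u} [CommRing k] [CommRing A] [Algebra k A] [Algebra.FormallySmooth k A]
    (xs : List A) (hreg : RingTheory.Sequence.IsWeaklyRegular A xs) (J : Ideal A) (hJ : Ideal.ofList xs = J)
    [Algebra.FormallySmooth k (A ⧸ J)] :
    Nonempty (((Fin xs.length → A ⧸ J) × Ω[(A ⧸ J)⁄k]) ≃ₗ[A ⧸ J] (A ⧸ J) ⊗[A] Ω[A⁄k]) := by
  classical
  let x : Fin xs.length → A := xs.get
  have hqr : CAlgX.IsQuasiRegular x :=
    Groth.L07.QReg.isQuasiRegular_of_isWeaklyRegular (by rw [List.ofFn_get]; exact hreg)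
  have hspan : Ideal.span (Set.range x) = J := by
    rw [← Groth.L07.QReg.ofList_ofFn, List.ofFn_get, hJ]
  have hxJ : ∀ i, x i ∈ J := fun i => hspan ▸ Ideal.subset_span ⟨i, rfl⟩
  have hker : RingHom.ker (algebraMap A (A ⧸ J)) = J := by
    rw [Ideal.Quotient.algebraMap_eq, Ideal.mk_ker]
  have hf : Function.Surjective (algebraMap A (A ⧸ J)) := Ideal.Quotient.mk_surjective
  let v : Fin xs.length → (A ⧸ J) ⊗[A] Ω[A⁄k] := fun i => 1 ⊗ₜ D k A (x i)
  let f₀ : (Fin xs.length → A ⧸ J) →ₗ[A ⧸ J] (A ⧸ J) ⊗[A] Ω[A⁄k] := Fintype.linearCombination (A ⧸ J) v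
  have key : ∀ b : Fin xs.length → A,
      f₀ (fun i => Ideal.Quotient.mk J (b i)) = (1 : A ⧸ J) ⊗ₜ D k A (∑ i, b i * x i) := fun b => by
    rw [Fintype.linearCombination_apply, map_sum, TensorProduct.tmul_sum]
    refine Finset.sum_congr rfl fun i _ => ?_
    rw [Derivation.leibniz, TensorProduct.tmul_add, TensorProduct.tmul_smul, TensorProduct.tmul_smul,
      ← algebraMap_smul (A ⧸ J) (b i) ((1 : A ⧸ J) ⊗ₜ D k A (x i)),
      ← algebraMap_smul (A ⧸ J) (x i) ((1 : A ⧸ J) ⊗ₜ D k A (b i)), Ideal.Quotient.algebraMap_eq,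
      Ideal.Quotient.eq_zero_iff_mem.2 (hxJ i), zero_smul, add_zero]
  obtain ⟨l, hl⟩ := (Algebra.FormallySmooth.iff_split_injection (R := k) (P := A) hf).1 inferInstance
  have hinj : ∀ a, f₀ a = 0 → a = 0 := fun a ha => by
    choose b hb using fun i => Ideal.Quotient.mk_surjective (a i)
    rw [show a = fun i => Ideal.Quotient.mk J (b i) from funext fun i => (hb i).symm, key] at ha
    have hy : ∑ i, b i * x i ∈ RingHom.ker (algebraMap A (A ⧸ J)) := by
      rw [hker]
      exact Ideal.sum_mem _ fun i _ => Ideal.mul_mem_left _ _ (hxJ i)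
    have h0 := LinearMap.congr_fun hl (Ideal.toCotangent _ ⟨_, hy⟩)
    rw [LinearMap.comp_apply, kerCotangentToTensor_toCotangent, ha, map_zero, LinearMap.id_apply,
      eq_comm, Ideal.toCotangent_eq_zero] at h0
    replace h0 : ∑ i, b i * x i ∈ Ideal.span (Set.range x) ^ 2 := by
      simpa only [hker, ← hspan] using h0
    funext i
    rw [← hb i]
    refine Ideal.Quotient.eq_zero_iff_mem.2 (hspan ▸ ?_)
    have h := hqr 1 (∑ j, C (b j) * X j)
      (MvPolynomial.IsHomogeneous.sum _ _ _ fun j _ => (MvPolynomial.isHomogeneous_X A j).C_mul _)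
      (by simpa using h0) (Finsupp.single i 1)
    simpa [coeff_sum, coeff_C_mul, coeff_X', Finsupp.single_eq_single_iff, eq_comm] using h
  obtain ⟨s, hs⟩ := Module.projective_lifting_property (mapBaseChange k A (A ⧸ J)) LinearMap.id
    (mapBaseChange_surjective k A (A ⧸ J) hf)
  have hs' : ∀ w, mapBaseChange k A (A ⧸ J) (s w) = w := fun w => LinearMap.congr_fun hs w
  have hex := exact_kerCotangentToTensor_mapBaseChange k A (A ⧸ J) hf
  have hf₀ : ∀ a, mapBaseChange k A (A ⧸ J) (f₀ a) = 0 := fun a => by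
    rw [Fintype.linearCombination_apply, map_sum]
    refine Finset.sum_eq_zero fun i _ => ?_
    rw [map_smul, mapBaseChange_tmul, map_D, Ideal.Quotient.algebraMap_eq,
      Ideal.Quotient.eq_zero_iff_mem.2 (hxJ i), map_zero, smul_zero, smul_zero]
  refine ⟨LinearEquiv.ofBijective (LinearMap.coprod f₀ s)
    ⟨(injective_iff_map_eq_zero _).2 ?_, fun z => ?_⟩⟩
  · rintro ⟨a, w⟩ h
    have hw : w = 0 := by
      have h' := congrArg (mapBaseChange k A (A ⧸ J)) h
      simpa [hf₀, hs'] using h'
    subst hw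
    exact Prod.ext (hinj a (by simpa using h)) rfl
  · obtain ⟨c, hc⟩ := (hex (z - s (mapBaseChange k A (A ⧸ J) z))).1 (by rw [map_sub, hs', sub_self])
    obtain ⟨⟨y, hy⟩, rfl⟩ := Ideal.toCotangent_surjective _ c
    rw [kerCotangentToTensor_toCotangent] at hc
    rw [hker, ← hspan] at hy
    obtain ⟨b, hb⟩ := Ideal.mem_span_range_iff_exists_fun.1 hy
    refine ⟨(fun i => Ideal.Quotient.mk J (b i), mapBaseChange k A (A ⧸ J) z), ?_⟩
    rw [LinearMap.coprod_apply, key, hb]
    exact eq_sub_iff_add_eq.1 hc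

end Groth.L12.TopExt
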