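import Mathlib.Algebra.Category.ModuleCat.EnoughInjectives
import Mathlib.Algebra.Category.ModuleCat.Ext.HasExt
import Mathlib.Algebra.Homology.DerivedCategory.Ext.Linear
import Mathlib.Algebra.Module.Projective
import Mathlib.RingTheory.Finiteness.Cardinality
import Mathlib.RingTheory.Ideal.Quotient.Operations

/-!
`Ext` out of a finite projective module over a quotient ring.
-/

set_option autoImplicit false
set_option linter.style.haveILetI false

noncomputable section

universe u

open CategoryTheory Abelian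

namespace Groth.L12.TopExt

variable {A : Type u} [CommRing A] (J : Ideal A) (M : Type u) [AddCommGroup M] [Module A M] [Module (A ⧸ J) M]
  [IsScalarTower A (A ⧸ J) M] [Module.Finite (A ⧸ J) M] [Module.Projective (A ⧸ J) M]

/-- `Ext^p_A(M, N) ≅ Hom_A(M, Ext^p_A(A/J, N))` for `M` finite projective over `A/J`. -/
theorem exists_extKilled (N : ModuleCat.{u} A) (p : ℕ) :
    Nonempty (Ext (ModuleCat.of A M) N p ≃ₗ[A] (M →ₗ[A] Ext (ModuleCat.of A (A ⧸ J)) N p)) := by
  classical
  let sm : M → (ModuleCat.of A (A ⧸ J) ⟶ ModuleCat.of A M) := fun m =>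
    ModuleCat.ofHom ((LinearMap.toSpanSingleton (A ⧸ J) M m).restrictScalars A)
  have hadd : ∀ m m', sm (m + m') = sm m + sm m' := fun m m' =>
    ModuleCat.hom_ext (LinearMap.ext fun b => smul_add (b : A ⧸ J) m m')
  have hsmul : ∀ (a : A) (m), sm (a • m) = a • sm m := fun a m =>
    ModuleCat.hom_ext (LinearMap.ext fun b => smul_comm (b : A ⧸ J) a m)
  let Ψ : Ext (ModuleCat.of A M) N p →ₗ[A] (M →ₗ[A] Ext (ModuleCat.of A (A ⧸ J)) N p) :=
    { toFun := fun ξ =>
        { toFun := fun m => (Ext.mk₀ (sm m)).comp ξ (zero_add p)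
          map_add' := fun m m' => by rw [hadd, Ext.mk₀_add, Ext.add_comp]
          map_smul' := fun a m => by rw [hsmul, Ext.mk₀_smul, Ext.smul_comp, RingHom.id_apply] }
      map_add' := fun ξ η => LinearMap.ext fun m => Ext.comp_add _ _ _ (zero_add p)
      map_smul' := fun a ξ => LinearMap.ext fun m => Ext.comp_smul _ _ (zero_add p) _ }
  obtain ⟨k, π, hπ⟩ := Module.Finite.exists_fin' (A ⧸ J) M
  obtain ⟨σ, hσ⟩ := Module.projective_lifting_property π LinearMap.id hπ
  let g : Fin k → M := fun i => π (Pi.single i 1)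
  let φ : Fin k → (ModuleCat.of A M ⟶ ModuleCat.of A (A ⧸ J)) := fun i =>
    ModuleCat.ofHom (((LinearMap.proj i).comp σ).restrictScalars A)
  have hx : ∀ x : M, ∑ i, σ x i • g i = x := fun x => by
    conv_rhs => rw [show x = π (σ x) from (LinearMap.congr_fun hσ x).symm, pi_eq_sum_univ' (σ x), map_sum]
    simp only [map_smul, g]
  have hid : ∑ i, φ i ≫ sm (g i) = 𝟙 (ModuleCat.of A M) := by
    refine ModuleCat.hom_ext (LinearMap.ext fun x => ?_)
    rw [ModuleCat.hom_sum, LinearMap.sum_apply]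
    exact hx x
  refine ⟨LinearEquiv.ofBijective Ψ ⟨(injective_iff_map_eq_zero Ψ).2 fun ξ hξ => ?_, fun h => ?_⟩⟩
  · rw [← Ext.mk₀_id_comp ξ, ← hid, Ext.mk₀_sum, Ext.sum_comp]
    refine Finset.sum_eq_zero fun i _ => ?_
    rw [← Ext.mk₀_comp_mk₀_assoc, show (Ext.mk₀ (sm (g i))).comp ξ (zero_add p) = 0 from
      LinearMap.congr_fun hξ (g i), Ext.comp_zero]
  · refine ⟨∑ i, (Ext.mk₀ (φ i)).comp (h (g i)) (zero_add p), LinearMap.ext fun m => ?_⟩
    choose a ha using fun i => Ideal.Quotient.mk_surjective (σ m i)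
    have hc : ∀ i, sm m ≫ φ i = a i • 𝟙 (ModuleCat.of A (A ⧸ J)) := fun i =>
      ModuleCat.hom_ext (LinearMap.ext fun b => by
        show σ ((b : A ⧸ J) • m) i = a i • (b : A ⧸ J)
        rw [map_smul, Pi.smul_apply, smul_eq_mul, Algebra.smul_def, Ideal.Quotient.algebraMap_eq, ha, mul_comm])
    show (Ext.mk₀ (sm m)).comp (∑ i, (Ext.mk₀ (φ i)).comp (h (g i)) (zero_add p)) (zero_add p) = h m
    rw [Ext.comp_sum]
    conv_rhs => rw [← hx m, map_sum]
    refine Finset.sum_congr rfl fun i _ => ?_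
    rw [Ext.mk₀_comp_mk₀_assoc, hc, Ext.mk₀_smul, Ext.smul_comp, Ext.mk₀_id_comp, ← map_smul]
    exact congrArg h (by rw [← ha i, ← Ideal.Quotient.algebraMap_eq, algebraMap_smul])

end Groth.L12.TopExt
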