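import Groth.Agent.L19.Jacobian.Basic
import Groth.Agent.L14.OmegaInv.Local
import Mathlib.LinearAlgebra.ExteriorPower.Basic
import Mathlib.LinearAlgebra.Determinant

/-!
Exterior powers of a projective module of constant rank.
-/

set_option autoImplicit false
set_option linter.style.haveILetI false

noncomputable section

universe u

open exteriorPower

namespace Groth.L12.TopExt

variable {B P : Type u} [CommRing B] [AddCommGroup P] [Module B P] [Module.Finite B P] [Module.Projective B P]
  {m : ℕ}

theorem subsingleton_of_rank (hn : ∀ p : PrimeSpectrum B, Module.rankAtStalk P p = m) :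
    Subsingleton ↥(⋀[B]^(m + 1) P) := by
  refine subsingleton_of_forall_eq 0 fun z => ?_
  have h : (LinearMap.id : ↥(⋀[B]^(m + 1) P) →ₗ[B] _) = 0 :=
    exteriorPower.linearMap_ext (AlternatingMap.ext fun v =>
      Groth.L19.Jacobian.alternating_eq_zero hn (exteriorPower.ιMulti B (m + 1)) v)
  exact LinearMap.congr_fun h z

theorem invertible_of_rank (hn : ∀ p : PrimeSpectrum B, Module.rankAtStalk P p = m) :
    Module.Invertible B ↥(⋀[B]^m P) := by
  classical
  refine Groth.L14.OmegaInv.invertible_of_local fun Q hQ => ?_
  obtain ⟨v, φ, s, hs, hspan, hφ⟩ := Groth.L19.Jacobian.exists_local_coords (n := m) hn Q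
  let ω : ↥(⋀[B]^m P) := exteriorPower.ιMulti B m v
  refine ⟨s ^ m, ω, fun h => hs (hQ.isPrime.mem_of_pow_mem m h), fun l => ?_, fun d hd => ?_⟩
  · have hl : l ∈ Submodule.span B (Set.range (exteriorPower.ιMulti B m (M := P))) := by
      rw [exteriorPower.ιMulti_span]
      exact Submodule.mem_top
    induction hl using Submodule.span_induction with
    | zero => exact ⟨0, by simp⟩
    | add x y _ _ hx hy =>
      obtain ⟨a, ha⟩ := hx
      obtain ⟨b, hb⟩ := hy
      exact ⟨a + b, by rw [smul_add, ha, hb, add_smul]⟩
    | smul r x _ hx =>
      obtain ⟨a, ha⟩ := hx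
      exact ⟨r * a, by rw [smul_comm, ha, mul_smul]⟩
    | mem x hx =>
      obtain ⟨w, rfl⟩ := hx
      choose a ha using fun k => (Submodule.mem_span_range_iff_exists_fun B).mp (hspan (w k))
      let π : (Fin m → B) →ₗ[B] P := Fintype.linearCombination B v
      let G := (exteriorPower.ιMulti B m (M := P)).compLinearMap π
      let b := Pi.basisFun B (Fin m)
      have hG : G = (LinearMap.toSpanSingleton B _ (G b)).compAlternatingMap b.det :=
        Module.Basis.ext_alternating b fun i hi => by
          let σ : Equiv.Perm (Fin m) := Equiv.ofBijective i (Finite.injective_iff_bijective.mp hi)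
          show G (b ∘ σ) = b.det (b ∘ σ) • G b
          rw [G.map_perm, b.det.map_perm, b.det_self, smul_assoc, one_smul]
      have hGb : G b = ω := by
        show exteriorPower.ιMulti B m (fun k => π (b k)) = ω
        exact congrArg _ (funext fun k => by simp [π, b, Fintype.linearCombination_apply_single])
      refine ⟨b.det a, ?_⟩
      have h1 := AlternatingMap.congr_fun hG a
      rw [LinearMap.compAlternatingMap_apply, LinearMap.toSpanSingleton_apply, hGb] at h1
      rw [← h1]
      show _ = exteriorPower.ιMulti B m (fun k => π (a k))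
      rw [show (fun k => π (a k)) = fun k => s • w k from funext fun k => by
        simp [π, Fintype.linearCombination_apply, ha k]]
      simpa using ((exteriorPower.ιMulti B m (M := P)).toMultilinearMap.map_smul_univ (fun _ => s) w).symm
  · let D : ↥(⋀[B]^m P) →ₗ[B] B := exteriorPower.alternatingMapLinearEquiv
      ((Matrix.detRowAlternating (R := B) (n := Fin m)).compLinearMap (LinearMap.pi φ))
    have hD : D ω = s ^ m := by
      rw [exteriorPower.alternatingMapLinearEquiv_apply_ιMulti]
      show Matrix.det (Matrix.of fun j i => φ i (v j)) = s ^ m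
      rw [show (Matrix.of fun j i => φ i (v j)) = Matrix.diagonal fun _ : Fin m => s from
        Matrix.ext fun j i => by
          rw [Matrix.of_apply, hφ, Matrix.diagonal_apply]
          simp only [eq_comm]]
      simp [Matrix.det_diagonal]
    have h2 := congrArg D hd
    rw [map_smul, hD, map_zero, smul_eq_mul] at h2
    rw [mul_comm]
    exact h2

end Groth.L12.TopExt
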